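import Groth.Agent.H20.YBlowUp.GenIso
import Groth.Agent.H20.SchImage

/-!
# Two `Y`-blow-ups are dominated by a third one (helper20)

The scheme-theoretic image of `Y` in `X₁ ×_X X₂`, with the module `p₁^*L₁ ⊗ p₂^*(L₂^{⊗ n})`.
-/

set_option autoImplicit false
set_option linter.style.haveILetI false
universe u
open CategoryTheory CategoryTheory.Limits AlgebraicGeometry TopologicalSpace Opposite

namespace Groth.Agent.H20.YBlowUp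

open Groth.Agent.H18 Groth.Agent.H18.PUP Groth.Agent.H18.STL

/-- `(Xᵢ, fᵢ, gᵢ)` is a `Y`-blow-up of `X` (with respect to `f : Y ⟶ X`) -/
def IsYBlowUp {X Y Xᵢ : Scheme.{u}} (f : Y ⟶ X) (fᵢ : Y ⟶ Xᵢ) (gᵢ : Xᵢ ⟶ X) : Prop :=
  IsSchemeTheoreticallyDominant fᵢ ∧ IsProper gᵢ ∧ fᵢ ≫ gᵢ = f ∧
    ∃ (L : Xᵢ.Modules) (ε : Coh.structureModule Xᵢ ⟶ L),
      RelAmple.IsRelAmple gᵢ L ∧ IsIso ((Scheme.Modules.pullback fᵢ).map ε)

/-- the locus of generation of the canonical pulled-back section -/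
theorem genLocus_pullSection {Z S : Scheme.{u}} (u : Z ⟶ S) {L : S.Modules}
    (hL : PicF.IsInvertible L) (s : Coh.structureModule S ⟶ L) :
    CohB1.genLocus ((Scheme.Modules.pullback u).obj L)
      (Groth.Agent.H54.PB.unitMap u ≫ (Scheme.Modules.pullback u).map s) =
      u ⁻¹ᵁ CohB1.genLocus L s :=
  Groth.Agent.H67.PullGenLocus.genLocus_pullback u L hL s (asIso (Groth.Agent.H54.PB.unitMap u))

theorem exists_dominating_two_aux {X Y : Scheme.{u}} (f : Y ⟶ X) [CompactSpace X] [QuasiCompact f]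
    {X₁ X₂ P : Scheme.{u}} (f₁ : Y ⟶ X₁) (g₁ : X₁ ⟶ X) (f₂ : Y ⟶ X₂) (g₂ : X₂ ⟶ X)
    (p₁ : P ⟶ X₁) (p₂ : P ⟶ X₂) (sq : IsPullback p₁ p₂ g₁ g₂) (hh : Y ⟶ P)
    (hh₁ : hh ≫ p₁ = f₁) (hh₂ : hh ≫ p₂ = f₂)
    (h₁ : IsYBlowUp f f₁ g₁) (h₂ : IsYBlowUp f f₂ g₂) :
    ∃ (X₃ : Scheme.{u}) (f₃ : Y ⟶ X₃) (g₃ : X₃ ⟶ X) (d₁ : X₃ ⟶ X₁) (d₂ : X₃ ⟶ X₂),
      IsYBlowUp f f₃ g₃ ∧ f₃ ≫ d₁ = f₁ ∧ d₁ ≫ g₁ = g₃ ∧ f₃ ≫ d₂ = f₂ ∧ d₂ ≫ g₂ = g₃ := by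
  obtain ⟨hd1, hp1, hf1, L₁, ε₁, hL₁, hε₁⟩ := h₁
  obtain ⟨hd2, hp2, hf2, L₂, ε₂, hL₂, hε₂⟩ := h₂
  haveI : IsProper p₁ := MorphismProperty.of_isPullback sq.flip hp2
  haveI : IsProper p₂ := MorphismProperty.of_isPullback sq hp1
  haveI : QuasiCompact f₁ := by
    haveI : QuasiCompact (f₁ ≫ g₁) := by rw [hf1]; infer_instance
    exact QuasiCompact.of_comp f₁ g₁
  haveI : QuasiCompact hh := by
    haveI : QuasiCompact (hh ≫ p₁) := by rw [hh₁]; infer_instance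
    exact QuasiCompact.of_comp _ p₁
  have hL₁inv := isInvertible_of_isRelAmple g₁ hL₁
  have hL₂inv := isInvertible_of_isRelAmple g₂ hL₂
  -- `p₁^* L₁` is ample relative to `p₂`
  have hA : RelAmple.IsRelAmple p₂ ((Scheme.Modules.pullback p₁).obj L₁) :=
    isRelAmple_of_isPullback sq hL₁
  obtain ⟨n, hnpos, hn⟩ :=
    exists_isRelAmple_comp_tensorMod_pullback_tensorPow p₂ g₂ hA hL₂
  have hM := hn n le_rfl
  have hP₁inv : PicF.IsInvertible ((Scheme.Modules.pullback p₁).obj L₁) :=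
    Groth.Agent.H67.AmplePullback.isInvertible_pullback _ hL₁inv
  have hPowinv := isInvertible_tensorPow hL₂inv n
  have hP₂inv : PicF.IsInvertible
      ((Scheme.Modules.pullback p₂).obj (CohB1.tensorPow L₂ n)) :=
    Groth.Agent.H67.AmplePullback.isInvertible_pullback _ hPowinv
  have hMinv := isInvertible_tensorMod hP₁inv hP₂inv
  have hi := Groth.Agent.H67.AmplePullback.isRelAmple_pullback_of_isEmbedding
    (p₂ ≫ g₂) hh.imageι hh.imageι.isEmbedding _ hM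
  have hiinv := Groth.Agent.H67.AmplePullback.isInvertible_pullback hh.imageι hMinv
  refine ⟨hh.image, hh.toImage, hh.imageι ≫ p₂ ≫ g₂, hh.imageι ≫ p₁, hh.imageι ≫ p₂,
    ⟨inferInstance, inferInstance, ?_, _,
      Groth.Agent.H54.PB.unitMap hh.imageι ≫ (Scheme.Modules.pullback hh.imageι).map
        (SecTwist.tmulHom
          (Groth.Agent.H54.PB.unitMap p₁ ≫ (Scheme.Modules.pullback p₁).map ε₁)
          (Groth.Agent.H54.PB.unitMap p₂ ≫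
            (Scheme.Modules.pullback p₂).map (SecTwist.powHom ε₂ n))), hi, ?_⟩, ?_, ?_, ?_, ?_⟩
  · rw [Scheme.Hom.toImage_imageι_assoc, reassoc_of% hh₂, hf2]
  · rw [isIso_pullback_map_iff _ hiinv, genLocus_pullSection _ hMinv,
      Groth.Agent.S15745.result _ _ _ hP₁inv hP₂inv, genLocus_pullSection _ hL₁inv,
      genLocus_pullSection _ hPowinv, genLocus_powHom hL₂inv ε₂ hnpos]
    have e1 := (isIso_pullback_map_iff f₁ hL₁inv ε₁).1 hε₁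
    have e2 := (isIso_pullback_map_iff f₂ hL₂inv ε₂).1 hε₂
    rw [Scheme.Hom.preimage_inf, Scheme.Hom.preimage_inf, ← Scheme.Hom.comp_preimage,
      ← Scheme.Hom.comp_preimage, ← Scheme.Hom.comp_preimage, ← Scheme.Hom.comp_preimage,
      Scheme.Hom.toImage_imageι, hh₁, hh₂, e1, e2, top_inf_eq]
  · rw [Scheme.Hom.toImage_imageι_assoc, hh₁]
  · rw [Category.assoc, sq.w]
  · rw [Scheme.Hom.toImage_imageι_assoc, hh₂]
  · rw [Category.assoc]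

theorem exists_dominating_two {X Y : Scheme.{u}} (f : Y ⟶ X) [CompactSpace X] [QuasiCompact f]
    {X₁ X₂ : Scheme.{u}} (f₁ : Y ⟶ X₁) (g₁ : X₁ ⟶ X) (f₂ : Y ⟶ X₂) (g₂ : X₂ ⟶ X)
    (h₁ : IsYBlowUp f f₁ g₁) (h₂ : IsYBlowUp f f₂ g₂) :
    ∃ (X₃ : Scheme.{u}) (f₃ : Y ⟶ X₃) (g₃ : X₃ ⟶ X) (d₁ : X₃ ⟶ X₁) (d₂ : X₃ ⟶ X₂),
      IsYBlowUp f f₃ g₃ ∧ f₃ ≫ d₁ = f₁ ∧ d₁ ≫ g₁ = g₃ ∧ f₃ ≫ d₂ = f₂ ∧ d₂ ≫ g₂ = g₃ :=
  exists_dominating_two_aux f f₁ g₁ f₂ g₂ _ _ (IsPullback.of_hasPullback g₁ g₂)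
    (pullback.lift f₁ f₂ (h₁.2.2.1.trans h₂.2.2.1.symm)) (pullback.lift_fst _ _ _)
    (pullback.lift_snd _ _ _) h₁ h₂

end Groth.Agent.H20.YBlowUp
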