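import Groth.Agent.H18.STL.CompositeAmple
import Groth.Agent.H67.PullGenLocus
import Groth.Agent.H67.SepCover
import Groth.Agent.S15745

/-!
# Global sections which generate everywhere, and pullbacks (helper20)

* `isIso_of_locally_bijective`: a morphism of modules which is locally bijective on sections is an iso;
* `isIso_iff_genLocus_eq_top`: `s : O ⟶ M` is an isomorphism iff its locus of generation is everything;
* `isIso_pullback_map_iff`: for `L` invertible, `f^* ε` is an isomorphism iff `f` lands in `X_ε`.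
-/

set_option autoImplicit false
universe u
open CategoryTheory CategoryTheory.Limits AlgebraicGeometry TopologicalSpace Opposite

namespace Groth.Agent.H20.YBlowUp

open Groth.Agent.H18 Groth.Agent.H18.PUP Groth.Agent.H18.STL

variable {X : Scheme.{u}}

theorem app_res {M M' : X.Modules} (φ : M ⟶ M') {U U' : X.Opens} (h : U' ≤ U) (s : Γ(M, U)) :
    mres M' h (φ.app U s) = φ.app U' (mres M h s) :=
  (ConcreteCategory.congr_hom (φ.mapPresheaf.naturality (homOfLE h).op) s).symm

theorem isIso_of_locally_bijective {M N : X.Modules} (φ : M ⟶ N)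
    (h : ∀ x : X, ∃ V : X.Opens, x ∈ V ∧
      ∀ V₁ : X.Opens, V₁ ≤ V → Function.Bijective (φ.app V₁)) :
    IsIso φ := by
  choose V hxV hV using h
  rw [Scheme.Modules.Hom.isIso_iff_isIso_app]
  intro W
  rw [ConcreteCategory.isIso_iff_bijective]
  have hinj : ∀ W : X.Opens, Function.Injective (φ.app W) := by
    intro W a b hab
    refine modules_eq_of_locally_eq M a b (fun x hx => ⟨V x ⊓ W, inf_le_right, ⟨hxV x, hx⟩, ?_⟩)
    apply (hV x _ inf_le_left).1
    rw [← app_res, ← app_res, hab]
  refine ⟨hinj W, fun b => ?_⟩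
  have hloc : ∀ x : W, ∃ a : Γ(M, V x.1 ⊓ W),
      φ.app _ a = mres N (inf_le_right : V x.1 ⊓ W ≤ W) b :=
    fun x => (hV x.1 _ inf_le_left).2 _
  choose a ha using hloc
  obtain ⟨s, hs⟩ := exists_glue M (fun x : W => V x.1 ⊓ W) W (fun _ => inf_le_right)
    (fun x hx => ⟨⟨x, hx⟩, hxV x, hx⟩) a (by
      intro i j
      apply hinj
      rw [← app_res, ← app_res, ha, ha, mres_mres, mres_mres])
  refine ⟨s, modules_eq_of_locally_eq N _ _ (fun x hx =>
    ⟨V x ⊓ W, inf_le_right, ⟨hxV x, hx⟩, ?_⟩)⟩
  rw [app_res, hs ⟨x, hx⟩]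
  exact ha ⟨x, hx⟩

theorem isIso_iff_genLocus_eq_top {M : X.Modules} (s : Coh.structureModule X ⟶ M) :
    IsIso s ↔ CohB1.genLocus M s = ⊤ := by
  constructor
  · intro h
    apply top_le_iff.1
    apply le_sSup
    show IsIso ((Scheme.Modules.restrictFunctor (⊤ : X.Opens).ι).map s)
    infer_instance
  · intro h
    refine isIso_of_locally_bijective s (fun x => ?_)
    have hx : x ∈ CohB1.genLocus M s := h ▸ Opens.mem_top x
    exact (mem_genLocus_iff s x).1 hx

variable {Y : Scheme.{u}}

/-- for invertible `L`, `f^* ε` is an isomorphism iff `f` maps into `X_ε` -/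
theorem isIso_pullback_map_iff (f : Y ⟶ X) {L : X.Modules} (hL : PicF.IsInvertible L)
    (ε : Coh.structureModule X ⟶ L) :
    IsIso ((Scheme.Modules.pullback f).map ε) ↔ f ⁻¹ᵁ CohB1.genLocus L ε = ⊤ := by
  rw [← Groth.Agent.H67.PullGenLocus.genLocus_pullback f L hL ε
    (asIso (Groth.Agent.H54.PB.unitMap f)), ← isIso_iff_genLocus_eq_top]
  exact (isIso_comp_left_iff _ _).symm

end Groth.Agent.H20.YBlowUp
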